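import Mathlib

/-!
# Ring-level lemmas for comparing powers of principal ideals generated by non-zero-divisors
-/

set_option linter.unusedSectionVars false
set_option linter.unusedVariables false
set_option linter.unusedSimpArgs false
set_option autoImplicit false
set_option linter.style.haveILetI false
set_option maxHeartbeats 400000

namespace Groth.Agent.Lib.Helper6.CDivMN

/-- Two nonzero pairs of naturals are proportional. -/
def Prop2 (p q : ℕ × ℕ) : Prop := p.1 * q.2 = q.1 * p.2

lemma Prop2.refl (p : ℕ × ℕ) : Prop2 p p := rfl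

lemma Prop2.symm {p q : ℕ × ℕ} (h : Prop2 p q) : Prop2 q p := Eq.symm h

lemma Prop2.trans {p q r : ℕ × ℕ} (hq : q ≠ (0, 0)) (h1 : Prop2 p q) (h2 : Prop2 q r) :
    Prop2 p r := by
  obtain ⟨a, b⟩ := p
  obtain ⟨c, d⟩ := q
  obtain ⟨e, f⟩ := r
  simp only [Prop2] at h1 h2 ⊢
  by_cases hc : c = 0
  · subst hc
    have hd : d ≠ 0 := by
      intro hd
      apply hq
      rw [hd]
    simp only [zero_mul] at h1 h2
    have ha : a = 0 := by
      rcases Nat.mul_eq_zero.mp h1 with h | h
      · exact h
      · exact absurd h hd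
    have he : e = 0 := by
      rcases Nat.mul_eq_zero.mp h2.symm with h | h
      · exact h
      · exact absurd h hd
    rw [ha, he, zero_mul, zero_mul]
  · have : c * (a * f) = c * (e * b) := by
      calc c * (a * f) = a * (c * f) := by ring
        _ = a * (e * d) := by rw [h2]
        _ = (a * d) * e := by ring
        _ = (c * b) * e := by rw [h1]
        _ = c * (e * b) := by ring
    exact Nat.eq_of_mul_eq_mul_left (Nat.pos_of_ne_zero hc) this

/-- For a non-unit non-zero-divisor, the powers generate pairwise distinct ideals. -/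
lemma pow_eq_of_span_pow_eq {R : Type*} [CommRing R] {f : R}
    (hf : f ∈ nonZeroDivisors R) (hfu : ¬ IsUnit f) {a b : ℕ}
    (h : Ideal.span {f ^ a} = Ideal.span {f ^ b}) : a = b := by
  wlog hab : a ≤ b generalizing a b
  · exact (this h.symm (le_of_not_ge hab)).symm
  by_contra hne
  have hlt : a < b := lt_of_le_of_ne hab hne
  have h1 : f ^ a ∈ Ideal.span {f ^ b} := by
    rw [← h]
    exact Ideal.mem_span_singleton_self _
  obtain ⟨c, hc⟩ := Ideal.mem_span_singleton'.mp h1
  have h2 : f ^ b = f ^ (b - a) * f ^ a := by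
    rw [← pow_add, Nat.sub_add_cancel hab]
  have h3 : (c * f ^ (b - a)) * f ^ a = 1 * f ^ a := by
    rw [one_mul, mul_assoc, ← h2, hc]
  have hfa : f ^ a ∈ nonZeroDivisors R := pow_mem hf a
  have h4 : c * f ^ (b - a) = 1 := (mul_cancel_right_mem_nonZeroDivisors hfa).mp h3
  have hpos : 0 < b - a := Nat.sub_pos_of_lt hlt
  have h5 : f ^ (b - a) = f * f ^ (b - a - 1) := by
    rw [← pow_succ', Nat.sub_add_cancel hpos]
  apply hfu
  refine IsUnit.of_mul_eq_one (c * f ^ (b - a - 1)) ?_
  rw [← h4, h5]
  ring

/-- The key numerical consequence: two power relations between principal ideals generated by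
non-zero-divisors, the first of which is a non-unit, are proportional. -/
lemma prop2_of_relations {R : Type*} [CommRing R] {f g : R}
    (hf : f ∈ nonZeroDivisors R) (hfu : ¬ IsUnit f) {m n m' n' : ℕ}
    (h1 : Ideal.span {f} ^ m = Ideal.span {g} ^ n)
    (h2 : Ideal.span {f} ^ m' = Ideal.span {g} ^ n') : m * n' = m' * n := by
  apply pow_eq_of_span_pow_eq hf hfu
  rw [← Ideal.span_singleton_pow, ← Ideal.span_singleton_pow]
  calc Ideal.span {f} ^ (m * n') = (Ideal.span {f} ^ m) ^ n' := pow_mul _ _ _
    _ = (Ideal.span {g} ^ n) ^ n' := by rw [h1]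
    _ = Ideal.span {g} ^ (n * n') := (pow_mul _ _ _).symm
    _ = Ideal.span {g} ^ (n' * n) := by rw [mul_comm]
    _ = (Ideal.span {g} ^ n') ^ n := pow_mul _ _ _
    _ = (Ideal.span {f} ^ m') ^ n := by rw [h2]
    _ = Ideal.span {f} ^ (m' * n) := (pow_mul _ _ _).symm

end Groth.Agent.Lib.Helper6.CDivMN
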