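import Mathlib
import Groth.Agent.Lib.Helper6.CDivMN.Ring

/-!
# Local proportional relations `m D = n E` between effective Cartier divisors globalise
-/

set_option linter.unusedSectionVars false
set_option linter.unusedVariables false
set_option linter.unusedSimpArgs false
set_option autoImplicit false
set_option linter.style.haveILetI false
set_option maxHeartbeats 400000

namespace Groth.Agent.Lib.Helper6.CDivMN

open AlgebraicGeometry CategoryTheory TopologicalSpace

universe u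

variable {X : Scheme.{u}}

lemma restrict_pair (D E : X.IdealSheafData) {U W : X.affineOpens} (h : W ≤ U) {m n : ℕ}
    (H : D.ideal U ^ m = E.ideal U ^ n) : D.ideal W ^ m = E.ideal W ^ n := by
  rw [← D.map_ideal h, ← E.map_ideal h, ← Ideal.map_pow, ← Ideal.map_pow, H]

lemma flat_res {U W : X.affineOpens} (h : W ≤ U) :
    (X.presheaf.map (homOfLE (show W.1 ≤ U.1 from h)).op).hom.Flat := by
  have h1 := Scheme.Hom.flat_appLE (𝟙 X) U.2 W.2 (show W.1 ≤ (𝟙 X) ⁻¹ᵁ U.1 from h)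
  have h2 : (𝟙 X : X ⟶ X).appLE U.1 W.1 (show W.1 ≤ (𝟙 X) ⁻¹ᵁ U.1 from h) =
      X.presheaf.map (homOfLE (show W.1 ≤ U.1 from h)).op := by
    simp only [Scheme.Hom.appLE, Scheme.Hom.id_app]
    exact Category.id_comp _
  rw [h2] at h1
  exact h1

/-- A local principal non-zero-divisor generator restricts to one. -/
lemma restrict_gen (D : X.IdealSheafData) {U W : X.affineOpens} (h : W ≤ U) {g : Γ(X, U)}
    (hg : g ∈ nonZeroDivisors Γ(X, U)) (hD : D.ideal U = Ideal.span {g}) :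
    ∃ g' : Γ(X, W), g' ∈ nonZeroDivisors Γ(X, W) ∧ D.ideal W = Ideal.span {g'} := by
  refine ⟨(X.presheaf.map (homOfLE (show W.1 ≤ U.1 from h)).op).hom g, ?_, ?_⟩
  · have hflat := flat_res h
    letI alg : Algebra Γ(X, U) Γ(X, W) :=
      (X.presheaf.map (homOfLE (show W.1 ≤ U.1 from h)).op).hom.toAlgebra
    haveI : Module.Flat Γ(X, U) Γ(X, W) := hflat
    have hreg : IsSMulRegular Γ(X, U) g := by
      intro a b hab
      simp only [smul_eq_mul] at hab
      exact (mul_cancel_left_mem_nonZeroDivisors hg).mp hab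
    have hreg2 : IsSMulRegular Γ(X, W)
        ((X.presheaf.map (homOfLE (show W.1 ≤ U.1 from h)).op).hom g) :=
      IsSMulRegular.of_flat hreg
    rw [mem_nonZeroDivisors_iff]
    constructor
    · intro x hx
      apply hreg2
      simp only [smul_eq_mul, mul_zero]
      exact hx
    · intro x hx
      apply hreg2
      simp only [smul_eq_mul, mul_zero]
      rw [mul_comm]
      exact hx
  · rw [← D.map_ideal h, hD, Ideal.map_span, Set.image_singleton]
    rfl

/-- A local generator is a non-unit at a point of the support. -/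
lemma not_isUnit_of_mem_support (D : X.IdealSheafData) {W : X.affineOpens} {x : X}
    (hxW : x ∈ W.1) (hx : x ∈ D.support) {g : Γ(X, W)} (hD : D.ideal W = Ideal.span {g}) :
    ¬ IsUnit g := by
  intro hu
  rw [D.mem_support_iff_of_mem hxW, Scheme.mem_zeroLocus_iff] at hx
  have h1 := hx g (by rw [SetLike.mem_coe, hD]; exact Ideal.mem_span_singleton_self g)
  rw [Scheme.basicOpen_of_isUnit _ hu] at h1
  exact h1 hxW

/-- The ideal is the unit ideal on an affine open disjoint from the support. -/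
lemma ideal_eq_top_of_disjoint (D : X.IdealSheafData) (W : X.affineOpens)
    (h : ∀ x ∈ W.1, x ∉ D.support) : D.ideal W = ⊤ := by
  have h1 := (W.2.fromSpec_image_zeroLocus (D.ideal W)).trans_subset
    (D.zeroLocus_inter_subset_supportSet W)
  have h2 : W.2.fromSpec '' PrimeSpectrum.zeroLocus (D.ideal W : Set Γ(X, W)) = ∅ := by
    rw [Set.eq_empty_iff_forall_notMem]
    rintro y hy
    have hy1 := h1 hy
    have hy2 : y ∈ W.1 := by
      rw [W.2.fromSpec_image_zeroLocus] at hy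
      exact hy.2
    exact h y hy2 hy1
  exact PrimeSpectrum.zeroLocus_empty_iff_eq_top.mp (Set.image_eq_empty.mp h2)

/-- `D` is locally principal, generated by non-zero-divisors. -/
def LocPrinc (D : X.IdealSheafData) : Prop :=
  ∀ x : X, ∃ U : X.affineOpens, x ∈ (U : X.Opens) ∧
    ∃ g : Γ(X, U), g ∈ nonZeroDivisors Γ(X, U) ∧ D.ideal U = Ideal.span {g}

/-- A common affine neighbourhood inside four given ones. -/
lemma exists_affine_le4 {x : X} {U₁ U₂ U₃ U₄ : X.affineOpens} (h1 : x ∈ U₁.1) (h2 : x ∈ U₂.1)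
    (h3 : x ∈ U₃.1) (h4 : x ∈ U₄.1) :
    ∃ W : X.affineOpens, x ∈ W.1 ∧ W ≤ U₁ ∧ W ≤ U₂ ∧ W ≤ U₃ ∧ W ≤ U₄ := by
  obtain ⟨_, ⟨W, hW, rfl⟩, hxW, hsub⟩ := X.isBasis_affineOpens.exists_subset_of_mem_open
    (show x ∈ ((U₁.1 ⊓ U₂.1 ⊓ U₃.1 ⊓ U₄.1 : X.Opens) : Set X) from ⟨⟨⟨h1, h2⟩, h3⟩, h4⟩)
    (U₁.1 ⊓ U₂.1 ⊓ U₃.1 ⊓ U₄.1 : X.Opens).2
  refine ⟨⟨W, hW⟩, hxW, ?_, ?_, ?_, ?_⟩
  · intro y hy
    exact (hsub hy).1.1.1
  · intro y hy
    exact (hsub hy).1.1.2
  · intro y hy
    exact (hsub hy).1.2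
  · intro y hy
    exact (hsub hy).2

/-- At a point of the union of the supports, any two local relations are proportional. -/
lemma prop2_at (D E : X.IdealSheafData) (hD : LocPrinc D) (hE : LocPrinc E) {x : X}
    (hx : x ∈ (D.support : Set X) ∪ (E.support : Set X))
    {U₁ U₂ : X.affineOpens} (h1 : x ∈ U₁.1) (h2 : x ∈ U₂.1) {p q : ℕ × ℕ}
    (hp : D.ideal U₁ ^ p.1 = E.ideal U₁ ^ p.2) (hq : D.ideal U₂ ^ q.1 = E.ideal U₂ ^ q.2) :
    Prop2 p q := by
  obtain ⟨UD, hxD, f₀, hf₀, hDf₀⟩ := hD x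
  obtain ⟨UE, hxE, g₀, hg₀, hEg₀⟩ := hE x
  obtain ⟨W, hxW, hW1, hW2, hWD, hWE⟩ := exists_affine_le4 h1 h2 hxD hxE
  obtain ⟨f, hf, hDf⟩ := restrict_gen D hWD hf₀ hDf₀
  obtain ⟨g, hg, hEg⟩ := restrict_gen E hWE hg₀ hEg₀
  have hp' := restrict_pair D E hW1 hp
  have hq' := restrict_pair D E hW2 hq
  rw [hDf, hEg] at hp' hq'
  rcases hx with hx | hx
  · have hfu := not_isUnit_of_mem_support D hxW hx hDf
    exact prop2_of_relations hf hfu hp' hq'
  · have hgu := not_isUnit_of_mem_support E hxW hx hEg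
    have := prop2_of_relations hg hgu hp'.symm hq'.symm
    unfold Prop2
    rw [mul_comm, ← this, mul_comm]

end Groth.Agent.Lib.Helper6.CDivMN
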