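import Mathlib
import Groth.Agent.Lib.Helper6.CDivMN.Main

/-!
# Globalising `m D = n E`
-/

set_option linter.unusedSectionVars false
set_option linter.unusedVariables false
set_option linter.unusedSimpArgs false
set_option autoImplicit false
set_option linter.style.haveILetI false
set_option maxHeartbeats 400000

namespace Groth.Agent.Lib.Helper6.CDivMN

open AlgebraicGeometry CategoryTheory TopologicalSpace

universe u

variable {X : Scheme.{u}}

/-- Step 1: a common proportionality class on the union of supports. -/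
lemma exists_common_pair (D E : X.IdealSheafData) (hD : LocPrinc D) (hE : LocPrinc E)
    (hconn : IsPreconnected ((D.support : Set X) ∪ (E.support : Set X)))
    (U : X → X.affineOpens) (hxU : ∀ x, x ∈ (U x).1) (pr : X → ℕ × ℕ)
    (hpr : ∀ x, pr x ≠ (0, 0))
    (hrel : ∀ x, D.ideal (U x) ^ (pr x).1 = E.ideal (U x) ^ (pr x).2) :
    ∃ p₀ : ℕ × ℕ, p₀ ≠ (0, 0) ∧
      ∀ x ∈ (D.support : Set X) ∪ (E.support : Set X), Prop2 (pr x) p₀ := by
  set Z : Set X := (D.support : Set X) ∪ (E.support : Set X) with hZ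
  by_cases hne : Z.Nonempty
  · obtain ⟨z₀, hz₀⟩ := hne
    refine ⟨pr z₀, hpr z₀, ?_⟩
    by_contra hcon
    push Not at hcon
    obtain ⟨x₁, hx₁Z, hx₁⟩ := hcon
    let u : Set X := ⋃ x ∈ {x | x ∈ Z ∧ Prop2 (pr x) (pr z₀)}, ((U x).1 : Set X)
    let v : Set X := ⋃ x ∈ {x | x ∈ Z ∧ ¬ Prop2 (pr x) (pr z₀)}, ((U x).1 : Set X)
    have hu : IsOpen u := isOpen_biUnion fun x _ => (U x).1.2
    have hv : IsOpen v := isOpen_biUnion fun x _ => (U x).1.2
    have hcov : Z ⊆ u ∪ v := by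
      intro x hx
      by_cases hP : Prop2 (pr x) (pr z₀)
      · exact Or.inl (Set.mem_biUnion (show x ∈ {x | x ∈ Z ∧ Prop2 (pr x) (pr z₀)} from ⟨hx, hP⟩)
          (hxU x))
      · exact Or.inr (Set.mem_biUnion
          (show x ∈ {x | x ∈ Z ∧ ¬ Prop2 (pr x) (pr z₀)} from ⟨hx, hP⟩) (hxU x))
    have hZu : (Z ∩ u).Nonempty :=
      ⟨z₀, hz₀, Set.mem_biUnion (show z₀ ∈ {x | x ∈ Z ∧ Prop2 (pr x) (pr z₀)} from
        ⟨hz₀, Prop2.refl _⟩) (hxU z₀)⟩
    have hZv : (Z ∩ v).Nonempty :=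
      ⟨x₁, hx₁Z, Set.mem_biUnion (show x₁ ∈ {x | x ∈ Z ∧ ¬ Prop2 (pr x) (pr z₀)} from
        ⟨hx₁Z, hx₁⟩) (hxU x₁)⟩
    obtain ⟨y, hyZ, hyu, hyv⟩ := hconn u v hu hv hcov hZu hZv
    obtain ⟨a, ⟨haZ, haP⟩, hya⟩ := Set.mem_iUnion₂.mp hyu
    obtain ⟨b, ⟨hbZ, hbP⟩, hyb⟩ := Set.mem_iUnion₂.mp hyv
    have hba : Prop2 (pr b) (pr a) := prop2_at D E hD hE hyZ hyb hya (hrel b) (hrel a)
    exact hbP (Prop2.trans (hpr a) hba haP)
  · refine ⟨(1, 1), by simp, ?_⟩
    intro x hx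
    exact absurd ⟨x, hx⟩ hne

/-- Step 2: local relations with exponents proportional to a fixed pair. -/
lemma exists_local_multiple (D E : X.IdealSheafData)
    (U : X → X.affineOpens) (hxU : ∀ x, x ∈ (U x).1) (pr : X → ℕ × ℕ)
    (hpr : ∀ x, pr x ≠ (0, 0))
    (hrel : ∀ x, D.ideal (U x) ^ (pr x).1 = E.ideal (U x) ^ (pr x).2)
    (p₀ : ℕ × ℕ) (hp₀ : ∀ x ∈ (D.support : Set X) ∪ (E.support : Set X), Prop2 (pr x) p₀)
    (x : X) :
    ∃ V : X.affineOpens, x ∈ V.1 ∧ ∃ s : ℕ, 0 < s ∧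
      D.ideal V ^ (s * p₀.1) = E.ideal V ^ (s * p₀.2) := by
  by_cases hx : x ∈ (D.support : Set X) ∪ (E.support : Set X)
  · refine ⟨U x, hxU x, (pr x).1 + (pr x).2, ?_, ?_⟩
    · rcases Nat.eq_zero_or_pos ((pr x).1 + (pr x).2) with h | h
      · exfalso
        apply hpr x
        have h1 : (pr x).1 = 0 := by omega
        have h2 : (pr x).2 = 0 := by omega
        exact Prod.ext h1 h2
      · exact h
    · have hP : (pr x).1 * p₀.2 = p₀.1 * (pr x).2 := hp₀ x hx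
      have e1 : ((pr x).1 + (pr x).2) * p₀.1 = (pr x).1 * (p₀.1 + p₀.2) := by
        rw [add_mul, mul_add, hP, mul_comm (pr x).2 p₀.1]
      have e2 : ((pr x).1 + (pr x).2) * p₀.2 = (pr x).2 * (p₀.1 + p₀.2) := by
        rw [add_mul, mul_add, hP, mul_comm p₀.1 (pr x).2]
      rw [e1, e2, pow_mul, pow_mul, hrel x]
  · have hopen : IsOpen ((D.support : Set X) ∪ (E.support : Set X))ᶜ :=
      (D.support.2.union E.support.2).isOpen_compl
    obtain ⟨_, ⟨V, hV, rfl⟩, hxV, hsub⟩ := X.isBasis_affineOpens.exists_subset_of_mem_open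
      (show x ∈ ((D.support : Set X) ∪ (E.support : Set X))ᶜ from hx) hopen
    refine ⟨⟨V, hV⟩, hxV, 1, Nat.one_pos, ?_⟩
    have hDtop : D.ideal ⟨V, hV⟩ = ⊤ := ideal_eq_top_of_disjoint D ⟨V, hV⟩
      (fun y hy hyD => hsub hy (Or.inl hyD))
    have hEtop : E.ideal ⟨V, hV⟩ = ⊤ := ideal_eq_top_of_disjoint E ⟨V, hV⟩
      (fun y hy hyE => hsub hy (Or.inr hyE))
    rw [hDtop, hEtop, Ideal.top_pow, Ideal.top_pow]

/-- Main theorem. -/
theorem main [IsNoetherian X] (D E : X.IdealSheafData) (hD : LocPrinc D) (hE : LocPrinc E)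
    (hconn : IsPreconnected ((D.support : Set X) ∪ (E.support : Set X)))
    (hloc : ∀ x : X, ∃ U : X.affineOpens, x ∈ (U : X.Opens) ∧
      ∃ m n : ℕ, (m, n) ≠ (0, 0) ∧ D.ideal U ^ m = E.ideal U ^ n) :
    ∃ m n : ℕ, (m, n) ≠ (0, 0) ∧ ∀ U : X.affineOpens, D.ideal U ^ m = E.ideal U ^ n := by
  choose U hxU m n hmn hrel using hloc
  obtain ⟨p₀, hp₀ne, hp₀⟩ := exists_common_pair D E hD hE hconn U hxU (fun x => (m x, n x))
    hmn hrel
  have hloc2 := exists_local_multiple D E U hxU (fun x => (m x, n x)) hmn hrel p₀ hp₀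
  choose V hxV s hs hV using hloc2
  obtain ⟨t, ht⟩ := isCompact_univ.elim_finite_subcover (fun x : X => ((V x).1 : Set X))
    (fun x => (V x).1.2) (fun x _ => Set.mem_iUnion.mpr ⟨x, hxV x⟩)
  set T : ℕ := ∏ x ∈ t, s x with hT
  have hTpos : 0 < T := Finset.prod_pos fun x _ => hs x
  refine ⟨T * p₀.1, T * p₀.2, ?_, ?_⟩
  · intro h
    apply hp₀ne
    have h1 : T * p₀.1 = 0 := congrArg Prod.fst h
    have h2 : T * p₀.2 = 0 := congrArg Prod.snd h
    have h1' : p₀.1 = 0 := by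
      rcases Nat.mul_eq_zero.mp h1 with h | h
      · omega
      · exact h
    have h2' : p₀.2 = 0 := by
      rcases Nat.mul_eq_zero.mp h2 with h | h
      · omega
      · exact h
    exact Prod.ext h1' h2'
  · have key : D ^ (T * p₀.1) = E ^ (T * p₀.2) := by
      refine Scheme.IdealSheafData.ext_of_iSup_eq_top (fun i : t => V i.1) ?_ ?_
      · rw [eq_top_iff]
        intro y _
        have hy := ht (Set.mem_univ y)
        obtain ⟨x, hxt, hyx⟩ := Set.mem_iUnion₂.mp hy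
        exact TopologicalSpace.Opens.mem_iSup.mpr ⟨⟨x, hxt⟩, hyx⟩
      · rintro ⟨x, hxt⟩
        obtain ⟨c, hc⟩ := Finset.dvd_prod_of_mem s hxt
        change D.ideal (V x) ^ (T * p₀.1) = E.ideal (V x) ^ (T * p₀.2)
        rw [hT, hc, mul_comm (s x) c, mul_assoc, mul_assoc, pow_mul', pow_mul' _ c, hV x]
    intro W
    exact congrFun (congrArg Scheme.IdealSheafData.ideal key) W

end Groth.Agent.Lib.Helper6.CDivMN
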